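import Groth.Agent.AgVanish.PhiSurj
import Groth.Agent.AVMukai.Supported
import Groth.Agent.AVMukai.Sides
import Groth.Agent.AVVanish.Ample
import Groth.Agent.AVDeg.Poincare
import Groth.Agent.AVDeg.Torsion

/-!
The twisted Mumford bundle of a non-degenerate class along an isogeny has cohomology in one degree.
-/

set_option autoImplicit false
set_option backward.isDefEq.respectTransparency false
set_option backward.isDefEq.respectTransparency.types false
set_option linter.style.haveILetI false
set_option linter.unusedSectionVars false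
set_option maxHeartbeats 2000000

universe u

open CategoryTheory CategoryTheory.Limits MonoidalCategory CartesianMonoidalCategory MonObj GrpObj AlgebraicGeometry
open TopologicalSpace
open Groth.Agent.W7Cube (pull pull_pull pc pull_pc pc_const pc_id pull_cls pc_one)

noncomputable section

namespace Groth.Agent.AVIndex

attribute [local instance] W7Cube.law AVDeg.overInst

variable {k : Type u} [Field k] [IsAlgClosed k]

/-- fibre cohomology vanishing at the closed points off a finite closed set vanishes at all points off it -/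
theorem hvan_of_closed {X S : Scheme.{u}} (f : X ⟶ S) [IsProper f] [IsLocallyNoetherian S]
    [JacobsonSpace S] [HasInjectiveResolutions X.Modules] {F : X.Modules} (hF : Coh.IsCoh F)
    (hfl : FlatMod.IsFlatOver f F) (Z : Set S) (hZc : IsClosed Z) (p : ℕ)
    (h : ∀ y : S, IsClosed ({y} : Set S) → y ∉ Z → Subsingleton (CohIII.fiberH f F y p)) (y : S) (hy : y ∉ Z) :
    Subsingleton (CohIII.fiberH f F y p) := by
  obtain ⟨z, ⟨hz, hzZ⟩, hzc⟩ := nonempty_inter_closedPoints (Z := closure ({y} : Set S) ∩ Zᶜ)
    ⟨y, subset_closure rfl, hy⟩ (isClosed_closure.isLocallyClosed.inter hZc.isOpen_compl.isLocallyClosed)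
  obtain ⟨U, hzU, hU⟩ := W7Cech.exists_nhd_vanish f hF hfl p z (h z hzc hzZ)
  exact hU y ((specializes_iff_mem_closure.2 hz).mem_open U.2 hzU)

variable {A B : Over (Spec (CommRingCat.of k))} [GrpObj A] [IsProper A.hom] [GeometricallyIntegral A.hom]
  [GrpObj B] [IsProper B.hom] [GeometricallyIntegral B.hom]

/-- finitely many points lie over finitely many points along a finite morphism -/
theorem finite_points_preimage (h : A ⟶ B) [IsFinite h.left] (S : Set (𝟙_ (Over (Spec (CommRingCat.of k))) ⟶ B))
    (hS : S.Finite) : {a : 𝟙_ (Over (Spec (CommRingCat.of k))) ⟶ A | a ≫ h ∈ S}.Finite := by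
  let cp : Spec (CommRingCat.of k) := IsLocalRing.closedPoint k
  let Z : Set B.left := (fun b : 𝟙_ (Over (Spec (CommRingCat.of k))) ⟶ B => b.left cp) '' S
  have hZ : (h.left ⁻¹' Z).Finite := by
    rw [← Set.biUnion_preimage_singleton]
    exact (hS.image _).biUnion fun z _ => h.left.finite_preimage_singleton z
  refine Set.Finite.of_finite_image (f := fun a : 𝟙_ (Over (Spec (CommRingCat.of k))) ⟶ A => a.left cp) (hZ.subset ?_) ?_
  · rintro _ ⟨a, ha, rfl⟩
    exact ⟨a ≫ h, ha, rfl⟩
  · intro a _ b _ hab
    exact Over.OverMorphism.ext (congrArg Subtype.val ((pointEquivClosedPoint A.hom).injective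
      (a₁ := ⟨a.left, Over.w a⟩) (a₂ := ⟨b.left, Over.w b⟩) (Subtype.ext hab)))

local notation "Dt" c:arg b:arg => pc c (𝟙 B * (toUnit B ≫ b)) * c⁻¹

/-- the pullbacks of the translates differing trivially form a finite set -/
theorem finite_trivial (f : A ⟶ B) [IsMonHom f] [IsFinite f.left] [Surjective f.left] (c : PicLoc.PicSet B.left)
    (hnd : {b : 𝟙_ (Over (Spec (CommRingCat.of k))) ⟶ B | pc c (𝟙 B * (toUnit B ≫ b)) = c}.Finite) :
    {b : 𝟙_ (Over (Spec (CommRingCat.of k))) ⟶ B | pc (Dt c b) f = 1}.Finite := by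
  haveI : IsCommMonObj A := isCommMonObj_of_isProper_of_geometricallyIntegral A
  haveI : IsCommMonObj B := isCommMonObj_of_isProper_of_geometricallyIntegral B
  obtain ⟨h, hh, d, hd, -, hhf⟩ := AVDeg.exists_quasiInverse' f
  haveI := AVDeg.isFinite_pow_id (A := B) hd
  refine (finite_points_preimage (𝟙 B ^ d) _ hnd).subset fun b hb => ?_
  rw [Set.mem_setOf_eq, Set.mem_setOf_eq, MonObj.comp_pow, Category.comp_id, ← mul_inv_eq_one]
  rw [Set.mem_setOf_eq] at hb
  have h1 : pc (Dt c b) (𝟙 B ^ d) = 1 := by
    rw [← hhf, ← pull_pc, hb, map_one]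
  rw [AVVanish.dt_pow]
  rw [W7Cube.pc_pow, AVVanish.pc_inv_of_invariant _ (fun a => AgVanish.translate_div_invariant c a b), _root_.inv_pow,
    ← zpow_natCast, ← zpow_natCast, ← zpow_neg, ← zpow_add] at h1
  rw [← zpow_natCast]
  refine Eq.trans ?_ h1
  congr 1
  obtain ⟨m, rfl⟩ : ∃ m, d = m + 1 := ⟨d - 1, by omega⟩
  rw [W7Cube.tri_succ, Nat.add_sub_cancel, Nat.mul_comm (m + 1) m]
  push_cast
  ring

variable {c : PicLoc.PicSet B.left} (f : A ⟶ B) {M : (A ⊗ B).left.Modules} (hM : PicF.IsInvertible M)
  (hMc : PicGrp.cls M hM = pc c (fst A B ≫ f * snd A B) * (pc c (fst A B ≫ f))⁻¹)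

include hMc in
/-- the class on the slice at a point -/
theorem slice_eq [IsMonHom f] (b : 𝟙_ (Over (Spec (CommRingCat.of k))) ⟶ B) :
    PicGrp.cls _ (PicLoc.isInvertible_pullback (lift (𝟙 A) (toUnit A ≫ b)).left hM) = pc (Dt c b) f := by
  rw [← pull_cls (lift (𝟙 A) (toUnit A ≫ b)).left M hM, hMc, map_mul, map_inv, pull_pc, pull_pc]
  change _ = pull f.left (pc c (𝟙 B * (toUnit B ≫ b)) * c⁻¹)
  rw [map_mul, map_inv, pull_pc]
  congr 2
  · rw [MonObj.comp_mul, lift_fst_assoc, lift_snd, Category.id_comp, MonObj.comp_mul, Category.comp_id,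
      comp_toUnit_assoc]
  · rw [lift_fst_assoc, Category.id_comp]
    rfl

include hMc in
/-- **the cohomology lives in the degree of the dimension only** -/
theorem hh_iff [IsMonHom f] [IsFinite f.left] [Surjective f.left]
    (hnd : {b : 𝟙_ (Over (Spec (CommRingCat.of k))) ⟶ B | pc c (𝟙 B * (toUnit B ≫ b)) = c}.Finite) (g : ℕ)
    (hg : topologicalKrullDim A.left = g) (n : ℕ) :
    Subsingleton (Coh.HH (A ⊗ B).left M n) ↔ n ≠ g := by
  haveI : IsCommMonObj A := isCommMonObj_of_isProper_of_geometricallyIntegral A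
  haveI : IsCommMonObj B := isCommMonObj_of_isProper_of_geometricallyIntegral B
  haveI : GeometricallyConnected B.hom := W7See.geometricallyConnected_of_geometricallyIntegral B.hom
  haveI : GeometricallyConnected A.hom := W7See.geometricallyConnected_of_geometricallyIntegral A.hom
  haveI : Smooth B.hom := by
    haveI : GrpObj (Over.mk B.hom) := inferInstanceAs (GrpObj B)
    exact smooth_of_grpObj B.hom
  haveI : IsLocallyNoetherian B.left := LocallyOfFiniteType.isLocallyNoetherian B.hom
  haveI : IsLocallyNoetherian A.left := LocallyOfFiniteType.isLocallyNoetherian A.hom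
  haveI : JacobsonSpace B.left := LocallyOfFiniteType.jacobsonSpace B.hom
  haveI : Subsingleton (Spec (CommRingCat.of k)) := inferInstanceAs (Subsingleton (PrimeSpectrum k))
  haveI : IsIntegral A.left := GeometricallyIntegral.isIntegral_of_subsingleton A.hom
  haveI : IsIntegral B.left := GeometricallyIntegral.isIntegral_of_subsingleton B.hom
  haveI : CompactSpace A.left := QuasiCompact.compactSpace_of_compactSpace A.hom
  haveI : QuasiSeparatedSpace A.left := quasiSeparatedSpace_of_quasiSeparated A.hom
  haveI : HasInjectiveResolutions (A ⊗ B).left.Modules := DQPush.hasInj _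
  let q := (snd A B).left
  haveI : Flat q := inferInstanceAs (Flat (pullback.snd A.hom B.hom))
  haveI : IsProper q := inferInstanceAs (IsProper (pullback.snd A.hom B.hom))
  haveI : IsLocallyNoetherian (A ⊗ B).left := LocallyOfFiniteType.isLocallyNoetherian q
  letI : (A ⊗ B).left.Over (Spec (CommRingCat.of k)) := ⟨(A ⊗ B).hom⟩
  obtain ⟨g', hg', hreg⟩ := AVMukai.exists_dim B
  obtain rfl : g' = g := by exact_mod_cast (hg'.symm.trans (GrpField.dim_eq_of_isFinite f).symm).trans hg
  have hc : Coh.IsCoh M := ⟨TMul.isQCoh_of_isInvertible hM, TMul.isFT_of_isInvertible hM⟩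
  have hq : Coh.IsQCoh M := TMul.isQCoh_of_isInvertible hM
  have hfl := W7Hull.isFlatOver_of_isInvertible q hM
  let Z : Set B.left := (fun b : 𝟙_ (Over (Spec (CommRingCat.of k))) ⟶ B => b.left (IsLocalRing.closedPoint k)) ''
    {b | pc (Dt c b) f = 1}
  have hZ : Z.Finite := (finite_trivial f c hnd).image _
  have hcl : ∀ z ∈ Z, IsClosed ({z} : Set B.left) := by
    rintro _ ⟨b, -, rfl⟩
    exact (pointEquivClosedPoint B.hom ⟨b.left, Over.w b⟩).2
  have hclosed : ∀ (y : B.left), IsClosed ({y} : Set B.left) → ∀ p, (y ∉ Z ∨ g' < p) →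
      Subsingleton (CohIII.fiberH q M y p) := by
    intro y hy p hp
    obtain ⟨b, rfl⟩ := AVAmple.exists_point (A := B) hy
    rw [AgVanish.fiberH_iff M hq b p]
    rcases hp with hp | hp
    · refine AgVanish.hh_zero_of_invariant (PicLoc.isInvertible_pullback _ hM) (fun a => ?_) ?_ p
      · rw [slice_eq f hM hMc]
        change pull (𝟙 A * (toUnit A ≫ a)).left (pc (Dt c b) f) = pc (Dt c b) f
        rw [pull_pc]
        have h := congrArg (pull f.left) (AgVanish.translate_div_invariant c (a ≫ f) b)
        rw [pull_pull, ← Over.comp_left] at h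
        refine Eq.trans ?_ h
        change pull _ _ = pull _ _
        refine congrArg (fun m : A ⟶ B => pull m.left (Dt c b)) ?_
        rw [MonObj.comp_mul, MonObj.mul_comp, Category.comp_id, Category.id_comp, Category.assoc, ← Category.assoc f,
          toUnit_unique (f ≫ toUnit B) (toUnit A)]
      · rw [slice_eq f hM hMc]
        exact fun h => hp ⟨b, h, rfl⟩
    · exact AVMukai.subsingleton_hh_high g' hg _ p hp
  have hvan : ∀ y : B.left, y ∉ Z → ∀ p, Subsingleton (CohIII.fiberH q M y p) := fun y hy p => by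
    refine hvan_of_closed q hc hfl Z ?_ p (fun z hz hzZ => hclosed z hz p (Or.inl hzZ)) y hy
    rw [← Set.biUnion_of_singleton Z]
    exact hZ.isClosed_biUnion fun z hz => hcl z hz
  have hlow : ∀ p, p < g' → Subsingleton (Coh.HH (A ⊗ B).left M p) := fun p hp =>
    AVMukai.subsingleton_hh_low q hc hfl Z hZ hcl hvan (W7Hull.isFP_of_isInvertible hM) g'
      (fun z hz => hreg z (hcl z hz)) k p hp
  have hhigh : ∀ p, g' < p → Subsingleton (Coh.HH (A ⊗ B).left M p) := fun p hp => by
    obtain ⟨e⟩ := AVMukai.nonempty_top q hc hfl Z hZ hcl hvan k p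
    haveI : Subsingleton Γ((Coh.Rpush q p).obj M, ⊤) := subsingleton_of_forall_eq 0
      (AVMukai.sections_zero_all q hc hfl p (fun y => hvan_of_closed q hc hfl ∅ isClosed_empty p
        (fun z hz _ => hclosed z hz p (Or.inr hp)) y (Set.notMem_empty y)) ⊤)
    exact e.symm.injective.subsingleton
  constructor
  · intro hn hne
    subst hne
    have hall : ∀ p, Subsingleton (Coh.HH (A ⊗ B).left M p) := fun p => by
      rcases lt_trichotomy p n with h | h | h
      · exact hlow p h
      · exact h ▸ hn
      · exact hhigh p h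
    have h0 := AgVanish.fiberH_subsingleton_of_finite q hc hfl k Z hZ hcl (fun y _ hy p => hvan y hy p) hall
      (η[B].left (IsLocalRing.closedPoint k)) 0
    rw [AgVanish.fiberH_iff M hq η[B] 0] at h0
    have e0 := slice_eq f hM hMc η[B]
    rw [← Hom.one_def, ← Hom.one_def, _root_.mul_one, pc_id, mul_inv_cancel] at e0
    rw [show pc (1 : PicLoc.PicSet B.left) f = 1 from map_one _, PicGrp.cls_eq_one_iff] at e0
    obtain ⟨i⟩ := e0
    haveI := CohQC.hh_subsingleton_of_iso i 0 h0
    have h := (Sheaf.H.equiv₀ (Coh.toAb (Coh.structureModule A.left))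
      (Limits.isTerminalTop (α := TopologicalSpace.Opens A.left))).symm.toEquiv.subsingleton
    exact one_ne_zero (α := Γ(A.left, ⊤)) (@Subsingleton.elim _ h _ _)
  · intro hne
    rcases lt_or_gt_of_ne hne with h | h
    · exact hlow n h
    · exact hhigh n h

end Groth.Agent.AVIndex
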