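import Groth.Agent.AVIndex.Powers
import Groth.Agent.AgVanish.LerayLow

/-!
The index is subadditive.
-/

set_option autoImplicit false
set_option backward.isDefEq.respectTransparency false
set_option backward.isDefEq.respectTransparency.types false
set_option linter.style.haveILetI false
set_option linter.unusedSectionVars false
set_option maxHeartbeats 1000000
set_option synthInstance.maxHeartbeats 200000

universe u

open CategoryTheory CategoryTheory.Limits MonoidalCategory CartesianMonoidalCategory MonObj GrpObj AlgebraicGeometry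
open TopologicalSpace
open Groth.Agent.W7Cube (pull pull_pull pc pull_pc pc_id pull_cls)
open Groth.Agent.AVDeg (rep isInvertible_rep cls_rep)

noncomputable section

namespace Groth.Agent.AVIndex

attribute [local instance] W7Cube.law AVDeg.overInst
attribute [local instance] AVEuler.isProper_tensor AVEuler.geometricallyIntegral_tensor AVEuler.isCommMonObj_tensor

variable {k : Type u} [Field k] [IsAlgClosed k] {A : Over (Spec (CommRingCat.of k))} [GrpObj A] [IsProper A.hom]
  [GeometricallyIntegral A.hom] [IsCommMonObj A]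

/-- **subadditivity of the index** -/
theorem index_add_le {a b : PicLoc.PicSet A.left} {i j l : ℕ} (ha : ConcC a i) (hb : ConcC b j)
    (hab : ConcC (a * b) l) : l ≤ i + j := by
  by_contra hcon
  let σ : A ⊗ A ⟶ A ⊗ A := lift (fst A A) (fst A A * snd A A)
  let τ : A ⊗ A ⟶ A ⊗ A := lift (fst A A) ((fst A A)⁻¹ * snd A A)
  have h1 : σ ≫ τ = 𝟙 _ := by
    refine CartesianMonoidalCategory.hom_ext _ _ ?_ ?_
    · simp [σ, τ]
    · simp only [σ, τ, Category.assoc, lift_snd, MonObj.comp_mul, GrpObj.comp_inv, lift_fst, Category.id_comp]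
      rw [inv_mul_cancel_left]
  have h2 : τ ≫ σ = 𝟙 _ := by
    refine CartesianMonoidalCategory.hom_ext _ _ ?_ ?_
    · simp [σ, τ]
    · simp only [σ, τ, Category.assoc, lift_snd, MonObj.comp_mul, lift_fst, Category.id_comp]
      rw [mul_inv_cancel_left]
  haveI : IsIso σ := ⟨τ, h1, h2⟩
  haveI : IsIso σ.left := inferInstanceAs (IsIso ((Over.forget _).map σ))
  haveI : IsMonHom (fst A A * snd A A) := AVDeg.isMonHom_mul' _ _
  haveI : IsMonHom σ := inferInstance
  have hM := (ha.box hb).pullback σ
  refine not_subsingleton_iff_nontrivial.2 hM.2 ?_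
  set m := pc (AVEuler.box a b) σ with hm
  let M := rep m
  have hMi := isInvertible_rep m
  haveI : GeometricallyConnected A.hom := W7See.geometricallyConnected_of_geometricallyIntegral A.hom
  haveI : Smooth A.hom := by
    haveI : GrpObj (Over.mk A.hom) := inferInstanceAs (GrpObj A)
    exact smooth_of_grpObj A.hom
  haveI : IsLocallyNoetherian A.left := LocallyOfFiniteType.isLocallyNoetherian A.hom
  haveI : JacobsonSpace A.left := LocallyOfFiniteType.jacobsonSpace A.hom
  haveI : CompactSpace A.left := QuasiCompact.compactSpace_of_compactSpace A.hom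
  haveI : QuasiSeparatedSpace A.left := quasiSeparatedSpace_of_quasiSeparated A.hom
  haveI : HasInjectiveResolutions (A ⊗ A).left.Modules := DQPush.hasInj _
  let q := (snd A A).left
  haveI : Flat q := inferInstanceAs (Flat (pullback.snd A.hom A.hom))
  haveI : IsProper q := inferInstanceAs (IsProper (pullback.snd A.hom A.hom))
  haveI : IsLocallyNoetherian (A ⊗ A).left := LocallyOfFiniteType.isLocallyNoetherian q
  have hq : Coh.IsQCoh M := TMul.isQCoh_of_isInvertible hMi
  have hc : Coh.IsCoh M := ⟨hq, TMul.isFT_of_isInvertible hMi⟩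
  have hfl := W7Hull.isFlatOver_of_isInvertible q hMi
  have hclosed : ∀ (y : A.left), IsClosed ({y} : Set A.left) → ∀ p, p < l →
      Subsingleton (CohIII.fiberH q M y p) := fun y hy p hp => by
    obtain ⟨z, rfl⟩ := AVAmple.exists_point (A := A) hy
    rw [AgVanish.fiberH_iff M hq z p]
    obtain ⟨x, hx⟩ := AgVanish.exists_translate (a * b) (pc b (𝟙 A * (toUnit A ≫ z)) * b⁻¹) hab.finite_stab
      (fun w => AgVanish.translate_div_invariant b w z)
    have h' := (hab.translate x)
    rw [hx, show pc b (𝟙 A * (toUnit A ≫ z)) * b⁻¹ * (a * b) = a * pc b (𝟙 A * (toUnit A ≫ z)) by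
      rw [← _root_.mul_assoc, _root_.mul_right_comm _ b⁻¹, inv_mul_cancel_right, _root_.mul_comm],
      show a * pc b (𝟙 A * (toUnit A ≫ z)) = PicGrp.cls _ (PicLoc.isInvertible_pullback
        (lift (𝟙 A) (toUnit A ≫ z)).left hMi) by
      rw [← pull_cls (lift (𝟙 A) (toUnit A ≫ z)).left (rep m) hMi, cls_rep, hm, pull_pc, AVEuler.box]
      change _ = pull _ (_ * _)
      rw [map_mul, pull_pc, pull_pc]
      simp only [σ, Category.assoc, lift_fst, lift_snd, MonObj.comp_mul]
      rw [pc_id]] at h'
    exact ((concC_cls _ l).1 h').1 p (by omega)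
  refine AgVanish.subsingleton_hh_of_rpush_low k (X := (A ⊗ A).left) q M (i + j) fun p hp =>
    QCGen.isZero_of_sections fun O s => AVMukai.sections_zero_all q hc hfl p (fun y =>
      hvan_of_closed q hc hfl ∅ isClosed_empty p (fun z hz _ => hclosed z hz p (by omega)) y (Set.notMem_empty y)) O s

end Groth.Agent.AVIndex
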