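import Groth.Agent.AVIndex.Square
import Groth.Agent.AVDeg.HomBC
import Groth.Agent.AVDeg.DegBC
import Groth.Agent.W7FlatBC.Sections
import Groth.Agent.S17505

/-!
Concentrated cohomology passes to the algebraic closure; non-degeneracy from a non-zero Euler characteristic.
-/

set_option autoImplicit false
set_option backward.isDefEq.respectTransparency false
set_option backward.isDefEq.respectTransparency.types false
set_option linter.style.haveILetI false
set_option linter.unusedSectionVars false
set_option maxHeartbeats 1000000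
set_option synthInstance.maxHeartbeats 200000

universe u

open CategoryTheory CategoryTheory.Limits MonoidalCategory CartesianMonoidalCategory MonObj GrpObj AlgebraicGeometry
open Groth.Agent.W7Cube (pull pull_pull pc pull_pc pc_id pull_cls)
open scoped TensorProduct

noncomputable section

namespace Groth.Agent.AVIndex

attribute [local instance] W7Cube.law AVDeg.overInst

variable {k : Type u} [Field k]

/-- cohomology concentrated in degree `i` -/
def Conc (A : Over (Spec (CommRingCat.of k))) (L : A.left.Modules) (i : ℕ) : Prop :=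
  (∀ j : ℕ, j ≠ i → Subsingleton (Coh.HH A.left L j)) ∧ Nontrivial (Coh.HH A.left L i)

theorem Conc.congr {A : Over (Spec (CommRingCat.of k))} {L M : A.left.Modules} {i : ℕ}
    (h : ∀ j, Subsingleton (Coh.HH A.left L j) ↔ Subsingleton (Coh.HH A.left M j)) (hL : Conc A L i) :
    Conc A M i :=
  ⟨fun j hj => (h j).1 (hL.1 j hj), not_subsingleton_iff_nontrivial.1 fun hs =>
    not_subsingleton_iff_nontrivial.2 hL.2 ((h i).2 hs)⟩

theorem conc_of_iff {A : Over (Spec (CommRingCat.of k))} {L : A.left.Modules} {i : ℕ}
    (h : ∀ j, Subsingleton (Coh.HH A.left L j) ↔ j ≠ i) : Conc A L i :=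
  ⟨fun j hj => (h j).2 hj, not_subsingleton_iff_nontrivial.1 fun hs => (h i).1 hs rfl⟩

theorem Conc.unique {A : Over (Spec (CommRingCat.of k))} {L : A.left.Modules} {i j : ℕ}
    (hi : Conc A L i) (hj : Conc A L j) : i = j := by
  by_contra h
  exact not_subsingleton_iff_nontrivial.2 hi.2 (hj.1 i h)

/-- vanishing is insensitive to extensions of the field -/
theorem subsingleton_hh_bcK (K : Type u) [Field K] [Algebra k K] {A : Over (Spec (CommRingCat.of k))} [IsProper A.hom]
    {L : A.left.Modules} (hL : PicF.IsInvertible L) (j : ℕ) :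
    Subsingleton (Coh.HH (AVDeg.bcK k K A).left ((Scheme.Modules.pullback (pullback.fst A.hom (AVDeg.specMap k K))).obj L) j) ↔
      Subsingleton (Coh.HH A.left L j) := by
  haveI : CompactSpace A.left := (quasiCompact_iff_compactSpace A.hom).1 inferInstance
  haveI : QuasiSeparatedSpace A.left := (quasiSeparated_iff_quasiSeparatedSpace A.hom).1 inferInstance
  obtain ⟨e⟩ := W7FlatBC.nonempty_hh_baseChange k K (X := A.left) (X' := (AVDeg.bcK k K A).left)
    (pullback.fst A.hom (AVDeg.specMap k K)) (IsPullback.of_hasPullback _ _) L (TMul.isQCoh_of_isInvertible hL) j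
  refine (Equiv.subsingleton_congr e.toEquiv.symm).trans ⟨fun h => ?_, fun h => inferInstance⟩
  exact Module.FaithfullyFlat.lTensor_reflects_triviality k K (Coh.HH A.left L j)

theorem Conc.bcK (K : Type u) [Field K] [Algebra k K] {A : Over (Spec (CommRingCat.of k))} [IsProper A.hom]
    {L : A.left.Modules} (hL : PicF.IsInvertible L) {i : ℕ} (h : Conc A L i) :
    Conc (AVDeg.bcK k K A) ((Scheme.Modules.pullback (pullback.fst A.hom (AVDeg.specMap k K))).obj L) i :=
  ⟨fun j hj => (subsingleton_hh_bcK K hL j).2 (h.1 j hj), not_subsingleton_iff_nontrivial.1 fun hs =>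
    not_subsingleton_iff_nontrivial.2 h.2 ((subsingleton_hh_bcK K hL i).1 hs)⟩

theorem Conc.of_bcK (K : Type u) [Field K] [Algebra k K] {A : Over (Spec (CommRingCat.of k))} [IsProper A.hom]
    {L : A.left.Modules} (hL : PicF.IsInvertible L) {i : ℕ}
    (h : Conc (AVDeg.bcK k K A) ((Scheme.Modules.pullback (pullback.fst A.hom (AVDeg.specMap k K))).obj L) i) :
    Conc A L i :=
  ⟨fun j hj => (subsingleton_hh_bcK K hL j).1 (h.1 j hj), not_subsingleton_iff_nontrivial.1 fun hs =>
    not_subsingleton_iff_nontrivial.2 h.2 ((subsingleton_hh_bcK K hL i).2 hs)⟩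

/-- the Euler characteristic of concentrated cohomology does not vanish -/
theorem Conc.euler_ne_zero {A : Over (Spec (CommRingCat.of k))} [IsProper A.hom] {L : A.left.Modules}
    (hL : PicF.IsInvertible L) {i : ℕ} (h : Conc A L i) : Curv2.euler k A.left L ≠ 0 := by
  haveI := h.2
  haveI := CohFinite.finite_proper k A.left L (CurveRR.isCoh_of_inv hL) i
  rw [CurveRR.euler_eq_sum (k := k) (X := A.left) L (i + 1) fun j hj => h.1 j (by omega),
    Finset.sum_eq_single i (fun j _ hj => ?_) fun hn => absurd (Finset.self_mem_range_succ i) hn]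
  · exact mul_ne_zero (pow_ne_zero _ (by norm_num)) (Nat.cast_ne_zero.2 Module.finrank_pos.ne')
  · rw [CurveRR.h_eq_zero (k := k) (X := A.left) (h.1 j hj), Nat.cast_zero, mul_zero]

/-- concentrated cohomology makes a class non-degenerate -/
theorem Conc.finite_stab [IsAlgClosed k] {A : Over (Spec (CommRingCat.of k))} [GrpObj A] [IsProper A.hom]
    [GeometricallyIntegral A.hom] {L : A.left.Modules} (hL : PicF.IsInvertible L) {i : ℕ} (h : Conc A L i) :
    {a : 𝟙_ (Over (Spec (CommRingCat.of k))) ⟶ A |
      pc (PicGrp.cls L hL) (𝟙 A * (toUnit A ≫ a)) = PicGrp.cls L hL}.Finite := by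
  haveI : IsCommMonObj A := isCommMonObj_of_isProper_of_geometricallyIntegral A
  by_contra hinf
  refine h.euler_ne_zero hL (S17505.result k A L hL ?_)
  simpa only [AgVanish.pc_cls_eq_iff] using Set.not_finite.1 hinf

/-- the inverse of a module with concentrated cohomology -/
theorem Conc.inv_closed [IsAlgClosed k] {A : Over (Spec (CommRingCat.of k))} [GrpObj A] [IsProper A.hom]
    [GeometricallyIntegral A.hom] {L : A.left.Modules} (hL : PicF.IsInvertible L) {i : ℕ} (h : Conc A L i)
    {L' : A.left.Modules} (hL' : PicF.IsInvertible L') (he : PicGrp.cls L' hL' = (PicGrp.cls L hL)⁻¹)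
    (g : ℕ) (hg : topologicalKrullDim A.left = g) : i ≤ g ∧ Conc A L' (g - i) := by
  haveI : IsFinite (𝟙 A : A ⟶ A).left := inferInstanceAs (IsFinite (𝟙 A.left))
  haveI : Surjective (𝟙 A : A ⟶ A).left := inferInstanceAs (Surjective (𝟙 A.left))
  obtain ⟨i', hi', h1, h2⟩ := exists_index (𝟙 A) hL hL' (by rw [pc_id, he]) (h.finite_stab hL) g hg
  obtain rfl := h.unique (conc_of_iff h1)
  exact ⟨hi', conc_of_iff h2⟩

/-- pullback along an isogeny over an algebraically closed field -/
theorem Conc.pullback_closed [IsAlgClosed k] {A B : Over (Spec (CommRingCat.of k))} [GrpObj A] [IsProper A.hom]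
    [GeometricallyIntegral A.hom] [GrpObj B] [IsProper B.hom] [GeometricallyIntegral B.hom]
    (f : A ⟶ B) [IsMonHom f] [IsFinite f.left] [Surjective f.left]
    {L : B.left.Modules} (hL : PicF.IsInvertible L) {i : ℕ} (h : Conc B L i) :
    Conc A ((Scheme.Modules.pullback f.left).obj L) i :=
  have hp := index_pullback f hL (h.finite_stab hL)
  ⟨fun j hj => (hp j).1 (h.1 j hj), not_subsingleton_iff_nontrivial.1 fun hs =>
    not_subsingleton_iff_nontrivial.2 h.2 ((hp i).2 hs)⟩

end Groth.Agent.AVIndex

namespace Groth.Agent.AVIndex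

attribute [local instance] W7Cube.law AVDeg.overInst

variable {k : Type u} [Field k]

/-- the inverse of a module with concentrated cohomology, over any field -/
theorem Conc.inv {A : Over (Spec (CommRingCat.of k))} [GrpObj A] [IsProper A.hom]
    [GeometricallyIntegral A.hom] {L : A.left.Modules} (hL : PicF.IsInvertible L) {i : ℕ} (h : Conc A L i)
    {L' : A.left.Modules} (hL' : PicF.IsInvertible L') (he : PicGrp.cls L' hL' = (PicGrp.cls L hL)⁻¹)
    (g : ℕ) (hg : topologicalKrullDim A.left = g) : i ≤ g ∧ Conc A L' (g - i) := by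
  let p := pullback.fst A.hom (AVDeg.specMap k (AlgebraicClosure k))
  obtain ⟨hi, hc⟩ := (h.bcK (AlgebraicClosure k) hL).inv_closed (k := AlgebraicClosure k)
    (PicLoc.isInvertible_pullback p hL) (PicLoc.isInvertible_pullback p hL')
    (((pull_cls p L' hL').symm.trans ((congrArg (pull p) he).trans (map_inv _ _))).trans (congrArg (fun c => c⁻¹) (pull_cls p L hL))) g (by rw [AVDeg.topologicalKrullDim_bcK, hg])
  exact ⟨hi, hc.of_bcK (AlgebraicClosure k) hL'⟩

/-- pullback along an isogeny -/
theorem Conc.pullback {A B : Over (Spec (CommRingCat.of k))} [GrpObj A] [IsProper A.hom]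
    [GeometricallyIntegral A.hom] [GrpObj B] [IsProper B.hom] [GeometricallyIntegral B.hom]
    (f : A ⟶ B) [IsMonHom f] [IsFinite f.left] [Surjective f.left]
    {L : B.left.Modules} (hL : PicF.IsInvertible L) {i : ℕ} (h : Conc B L i) :
    Conc A ((Scheme.Modules.pullback f.left).obj L) i := by
  let K := AlgebraicClosure k
  haveI : IsFinite (AVDeg.bcMap K f).left := (AVDeg.isFinite_bcMap_iff K f).2 ‹_›
  haveI : Surjective (AVDeg.bcMap K f).left :=
    MorphismProperty.of_isPullback (P := @Surjective) (AVDeg.isPullback_bcMap K f) ‹_›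
  let pA := pullback.fst A.hom (AVDeg.specMap k K)
  let pB := pullback.fst B.hom (AVDeg.specMap k K)
  have h' := (h.bcK K hL).pullback_closed (k := K) (AVDeg.bcMap K f) (PicLoc.isInvertible_pullback pB hL)
  refine Conc.of_bcK K (PicLoc.isInvertible_pullback f.left hL) (h'.congr fun j => ?_)
  let e : (Scheme.Modules.pullback (AVDeg.bcMap K f).left).obj ((Scheme.Modules.pullback pB).obj L) ≅
      (Scheme.Modules.pullback pA).obj ((Scheme.Modules.pullback f.left).obj L) :=
    (Scheme.Modules.pullbackComp _ pB).app L ≪≫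
      (Scheme.Modules.pullbackCongr (AVDeg.isPullback_bcMap K f).w.symm).app L ≪≫
      ((Scheme.Modules.pullbackComp pA f.left).app L).symm
  exact ⟨fun hs => CohQC.hh_subsingleton_of_iso e j hs, fun hs => CohQC.hh_subsingleton_of_iso e.symm j hs⟩

end Groth.Agent.AVIndex
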