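import Groth.Agent.AVIndex.Core
import Groth.Agent.KunnethHH.Main

/-!
The index of a non-degenerate invertible module and of its pullbacks along isogenies.
-/

set_option autoImplicit false
set_option backward.isDefEq.respectTransparency false
set_option backward.isDefEq.respectTransparency.types false
set_option linter.style.haveILetI false
set_option linter.unusedSectionVars false
set_option maxHeartbeats 2000000

universe u

open CategoryTheory CategoryTheory.Limits MonoidalCategory CartesianMonoidalCategory MonObj GrpObj AlgebraicGeometry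
open TopologicalSpace
open Groth.Agent.W7Cube (pull pull_pull pc pull_pc pc_const pc_id pull_cls pc_one)
open scoped TensorProduct

noncomputable section

namespace Groth.Agent.AVIndex

attribute [local instance] W7Cube.law AVDeg.overInst

/-- the tensor product of nonzero vector spaces is nonzero -/
theorem not_subsingleton_tensor (k : Type*) [Field k] (V W : Type*) [AddCommGroup V] [Module k V] [AddCommGroup W]
    [Module k W] (hV : ¬ Subsingleton V) (hW : ¬ Subsingleton W) : ¬ Subsingleton (V ⊗[k] W) := by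
  intro h
  obtain ⟨x, hx⟩ := not_forall.1 fun h' => hV (subsingleton_of_forall_eq (0 : V) h')
  obtain ⟨y, hy⟩ := not_forall.1 fun h' => hW (subsingleton_of_forall_eq (0 : W) h')
  obtain ⟨a, ha⟩ := not_forall.1 fun h' => hx ((Module.forall_dual_apply_eq_zero_iff k x).1 h')
  obtain ⟨b, hb⟩ := not_forall.1 fun h' => hy ((Module.forall_dual_apply_eq_zero_iff k y).1 h')
  have := congrArg ((TensorProduct.lid k k).toLinearMap.comp (TensorProduct.map a b)) (Subsingleton.elim (x ⊗ₜ[k] y) 0)
  simp only [LinearMap.comp_apply, TensorProduct.map_tmul, LinearEquiv.coe_coe, TensorProduct.lid_tmul, map_zero,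
    smul_eq_mul, mul_eq_zero] at this
  exact this.elim ha hb

variable {k : Type u} [Field k] [IsAlgClosed k] {A B : Over (Spec (CommRingCat.of k))} [GrpObj A] [IsProper A.hom]
  [GeometricallyIntegral A.hom] [GrpObj B] [IsProper B.hom] [GeometricallyIntegral B.hom]

/-- a translate of the inverse class has the same stabiliser -/
theorem finite_inv (c : PicLoc.PicSet B.left)
    (hnd : {b : 𝟙_ (Over (Spec (CommRingCat.of k))) ⟶ B | pc c (𝟙 B * (toUnit B ≫ b)) = c}.Finite) :
    {b : 𝟙_ (Over (Spec (CommRingCat.of k))) ⟶ B | pc c⁻¹ (𝟙 B * (toUnit B ≫ b)) = c⁻¹}.Finite := by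
  refine hnd.subset fun b hb => ?_
  rw [Set.mem_setOf_eq, pc, map_inv] at hb
  exact inv_inj.1 hb

/-- **the index**: `L` and the inverse of its pullback have cohomology in complementary single degrees -/
theorem exists_index (f : A ⟶ B) [IsMonHom f] [IsFinite f.left] [Surjective f.left]
    {L : B.left.Modules} (hL : PicF.IsInvertible L) {L' : A.left.Modules} (hL' : PicF.IsInvertible L')
    (hLL' : PicGrp.cls L' hL' = (pc (PicGrp.cls L hL) f)⁻¹)
    (hnd : {b : 𝟙_ (Over (Spec (CommRingCat.of k))) ⟶ B |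
      pc (PicGrp.cls L hL) (𝟙 B * (toUnit B ≫ b)) = PicGrp.cls L hL}.Finite)
    (g : ℕ) (hg : topologicalKrullDim A.left = g) :
    ∃ i : ℕ, i ≤ g ∧ (∀ j : ℕ, Subsingleton (Coh.HH B.left L j) ↔ j ≠ i) ∧
      ∀ j : ℕ, Subsingleton (Coh.HH A.left L' j) ↔ j ≠ g - i := by
  classical
  haveI : IsCommMonObj A := isCommMonObj_of_isProper_of_geometricallyIntegral A
  haveI : IsCommMonObj B := isCommMonObj_of_isProper_of_geometricallyIntegral B
  let σ : A ⊗ B ⟶ A ⊗ B := lift (fst A B) (fst A B ≫ f * snd A B)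
  let τ : A ⊗ B ⟶ A ⊗ B := lift (fst A B) ((fst A B ≫ f)⁻¹ * snd A B)
  have h1 : σ ≫ τ = 𝟙 _ := by
    refine CartesianMonoidalCategory.hom_ext _ _ ?_ ?_
    · simp [σ, τ]
    · simp only [σ, τ, Category.assoc, lift_snd, MonObj.comp_mul, GrpObj.comp_inv, lift_fst_assoc, Category.id_comp]
      rw [inv_mul_cancel_left]
  have h2 : τ ≫ σ = 𝟙 _ := by
    refine CartesianMonoidalCategory.hom_ext _ _ ?_ ?_
    · simp [σ, τ]
    · simp only [σ, τ, Category.assoc, lift_snd, MonObj.comp_mul, lift_fst_assoc, Category.id_comp]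
      rw [mul_inv_cancel_left]
  haveI : IsIso σ := ⟨τ, h1, h2⟩
  haveI : IsIso σ.left := inferInstanceAs (IsIso ((Over.forget _).map σ))
  let N := CohB1.tensorMod ((Scheme.Modules.pullback (fst A B).left).obj L') ((Scheme.Modules.pullback (snd A B).left).obj L)
  have hN : PicF.IsInvertible N := TMul.isInvertible_tensorMod (PicLoc.isInvertible_pullback _ hL')
    (PicLoc.isInvertible_pullback _ hL)
  let M := (Scheme.Modules.pullback σ.left).obj N
  have hM : PicF.IsInvertible M := PicLoc.isInvertible_pullback _ hN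
  have hMc : PicGrp.cls M hM =
      pc (PicGrp.cls L hL) (fst A B ≫ f * snd A B) * (pc (PicGrp.cls L hL) (fst A B ≫ f))⁻¹ := by
    have e : PicGrp.cls N hN = pc (PicGrp.cls L' hL') (fst A B) * pc (PicGrp.cls L hL) (snd A B) := by
      rw [pc, pc, pull_cls, pull_cls]
      exact (Subtype.ext (PicGrp.cls_mul_cls_val _ _)).symm
    rw [← pull_cls σ.left N hN, e, map_mul, pull_pc, pull_pc, lift_fst, lift_snd, _root_.mul_comm, hLL']
    change _ * pull (fst A B).left (pc (PicGrp.cls L hL) f)⁻¹ = _
    rw [map_inv, pull_pc]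
  have hiff : ∀ n, Subsingleton (Coh.HH (A ⊗ B).left N n) ↔ n ≠ g := fun n => by
    have hq := TMul.isQCoh_of_isInvertible hN
    refine ⟨fun h => (hh_iff f hM hMc hnd g hg n).1 (TwistOverVan.subsingleton_hh_pullback_iso σ.left N hq n h),
      fun h => ?_⟩
    have h' := (hh_iff f hM hMc hnd g hg n).2 h
    haveI : IsIso τ.left := by
      haveI : IsIso τ := ⟨σ, h2, h1⟩
      exact inferInstanceAs (IsIso ((Over.forget _).map τ))
    have i : (Scheme.Modules.pullback τ.left).obj M ≅ N := (Scheme.Modules.pullbackComp τ.left σ.left).app N ≪≫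
      (Scheme.Modules.pullbackCongr (show τ.left ≫ σ.left = 𝟙 _ by rw [← Over.comp_left, h2]; rfl)).app N ≪≫
      (Scheme.Modules.pullbackId _).app N
    exact CohQC.hh_subsingleton_of_iso i n
      (TwistOverVan.subsingleton_hh_pullback_iso τ.left M (TMul.isQCoh_of_isInvertible hM) n h')
  haveI : QuasiCompact (A.left ↘ Spec (CommRingCat.of k)) := inferInstanceAs (QuasiCompact A.hom)
  haveI : IsSeparated (A.left ↘ Spec (CommRingCat.of k)) := inferInstanceAs (IsSeparated A.hom)
  haveI : QuasiCompact (B.left ↘ Spec (CommRingCat.of k)) := inferInstanceAs (QuasiCompact B.hom)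
  haveI : IsSeparated (B.left ↘ Spec (CommRingCat.of k)) := inferInstanceAs (IsSeparated B.hom)
  have hK : ∀ n, Subsingleton (DirectSum (Finset.HasAntidiagonal.antidiagonal n)
      fun pq => Coh.HH A.left L' pq.1.1 ⊗[k] Coh.HH B.left L pq.1.2) ↔ n ≠ g := fun n => by
    obtain ⟨e⟩ := KunnethHH.nonempty_kunneth A.left B.left L' (TMul.isQCoh_of_isInvertible hL') L
      (TMul.isQCoh_of_isInvertible hL) (Nakai.isFlatOver_field k L') (fun p => inferInstance) n
    exact (Equiv.subsingleton_congr e.toEquiv).trans (hiff n)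
  have hkey : ∀ p q, ¬ Subsingleton (Coh.HH A.left L' p) → ¬ Subsingleton (Coh.HH B.left L q) → p + q = g :=
    fun p q hp hq => by
      by_contra hne
      haveI := (hK (p + q)).2 hne
      refine not_subsingleton_tensor k _ _ hp hq ⟨fun x y => ?_⟩
      exact DirectSum.of_injective (β := fun pq : Finset.HasAntidiagonal.antidiagonal (p + q) =>
        Coh.HH A.left L' pq.1.1 ⊗[k] Coh.HH B.left L pq.1.2)
        ⟨(p, q), Finset.HasAntidiagonal.mem_antidiagonal.2 rfl⟩ (Subsingleton.elim _ _)
  obtain ⟨p₀, i, hi, hp₀, hq₀⟩ : ∃ p q, p + q = g ∧ ¬ Subsingleton (Coh.HH A.left L' p) ∧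
      ¬ Subsingleton (Coh.HH B.left L q) := by
    by_contra hcon
    refine (hK g).not.2 (fun h => h rfl) ?_
    haveI : ∀ pq : Finset.HasAntidiagonal.antidiagonal g,
        Subsingleton (Coh.HH A.left L' pq.1.1 ⊗[k] Coh.HH B.left L pq.1.2) := fun pq => by
      by_cases hp : Subsingleton (Coh.HH A.left L' pq.1.1)
      · infer_instance
      · haveI : Subsingleton (Coh.HH B.left L pq.1.2) := by
          by_contra hq
          exact hcon ⟨_, _, Finset.HasAntidiagonal.mem_antidiagonal.1 pq.2, hp, hq⟩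
        infer_instance
    exact ⟨fun x y => DirectSum.ext_component k fun pq => Subsingleton.elim _ _⟩
  refine ⟨i, by omega, fun j => ⟨fun h hj => hq₀ (hj ▸ h), fun hj => ?_⟩, fun j => ⟨fun h hj => ?_, fun hj => ?_⟩⟩
  · by_contra hq
    have := hkey _ _ hp₀ hq
    omega
  · have : j = p₀ := by omega
    exact hp₀ (this ▸ h)
  · by_contra hp
    have := hkey _ _ hp hq₀
    omega

/-- **invariance of the index under isogenies** -/
theorem index_pullback (f : A ⟶ B) [IsMonHom f] [IsFinite f.left] [Surjective f.left]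
    {L : B.left.Modules} (hL : PicF.IsInvertible L)
    (hnd : {b : 𝟙_ (Over (Spec (CommRingCat.of k))) ⟶ B |
      pc (PicGrp.cls L hL) (𝟙 B * (toUnit B ≫ b)) = PicGrp.cls L hL}.Finite) (j : ℕ) :
    Subsingleton (Coh.HH B.left L j) ↔ Subsingleton (Coh.HH A.left ((Scheme.Modules.pullback f.left).obj L) j) := by
  haveI : IsCommMonObj A := isCommMonObj_of_isProper_of_geometricallyIntegral A
  haveI : IsCommMonObj B := isCommMonObj_of_isProper_of_geometricallyIntegral B
  haveI : Subsingleton (Spec (CommRingCat.of k)) := inferInstanceAs (Subsingleton (PrimeSpectrum k))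
  haveI : IsIntegral A.left := GeometricallyIntegral.isIntegral_of_subsingleton A.hom
  haveI : IsIntegral B.left := GeometricallyIntegral.isIntegral_of_subsingleton B.hom
  haveI : Nonempty B.left := ⟨η[B].left (IsLocalRing.closedPoint k)⟩
  haveI : IsLocallyNoetherian B.left := LocallyOfFiniteType.isLocallyNoetherian B.hom
  obtain ⟨g, hgB⟩ := AVDeg.exists_dim B
  have hgA : topologicalKrullDim A.left = g := (GrpField.dim_eq_of_isFinite f).trans hgB
  obtain ⟨L', hL', hc'⟩ := PicGrp.exists_eq_cls (PicGrp.cls L hL)⁻¹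
  obtain ⟨N, hN, hNc⟩ := PicGrp.exists_eq_cls (PicGrp.cls L' hL')⁻¹
  -- the index of the inverse
  haveI : IsFinite (𝟙 B : B ⟶ B).left := inferInstanceAs (IsFinite (𝟙 B.left))
  haveI : Surjective (𝟙 B : B ⟶ B).left := inferInstanceAs (Surjective (𝟙 B.left))
  obtain ⟨i, hi, h1, h2⟩ := exists_index (𝟙 B) hL hL' (by rw [pc_id, ← hc']) hnd g hgB
  have hnd' : {b : 𝟙_ (Over (Spec (CommRingCat.of k))) ⟶ B |
      pc (PicGrp.cls L' hL') (𝟙 B * (toUnit B ≫ b)) = PicGrp.cls L' hL'}.Finite := by
    rw [← hc']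
    exact finite_inv _ hnd
  have hfL : PicGrp.cls _ (PicLoc.isInvertible_pullback f.left hL) = (pc (PicGrp.cls L' hL') f)⁻¹ := by
    rw [← pull_cls, ← hc', pc, map_inv, _root_.inv_inv]
  obtain ⟨i', hi', h1', h2'⟩ := exists_index f hL' (PicLoc.isInvertible_pullback f.left hL) hfL hnd' g hgA
  have hii : g - i = i' := by
    by_contra hne
    exact (h1' i').1 ((h2 i').2 (Ne.symm hne)) rfl
  rw [h1, h2']
  omega

end Groth.Agent.AVIndex
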