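import Groth.Agent.AVIndex.Descend
import Groth.Agent.AVEuler.Basic
import Mathlib.NumberTheory.SumFourSquares

/-!
The index of powers, through four squares.
-/

set_option autoImplicit false
set_option backward.isDefEq.respectTransparency false
set_option backward.isDefEq.respectTransparency.types false
set_option linter.style.haveILetI false
set_option linter.unusedSectionVars false
set_option maxHeartbeats 1000000
set_option synthInstance.maxHeartbeats 200000

universe u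

open CategoryTheory CategoryTheory.Limits MonoidalCategory CartesianMonoidalCategory MonObj GrpObj AlgebraicGeometry
open Groth.Agent.W7Cube (pull pull_pull pc pull_pc pc_id pull_cls pc_one cube_rel)
open Groth.Agent.AVDeg (rep isInvertible_rep cls_rep nonempty_rep_iso)
open scoped TensorProduct

noncomputable section

namespace Groth.Agent.AVIndex

/-- four squares turn a quadratic function into its multiple -/
theorem quad_four {G M : Type*} [AddCommGroup G] [AddCommGroup M] (q : G → M)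
    (hcube : ∀ u v w, q (u + v + w) + q u + q v + q w = q (u + v) + q (u + w) + q (v + w))
    (hneg : ∀ u, q (-u) = q u) (a b c d : ℤ) (x₁ x₂ x₃ x₄ : G) :
    q (a • x₁ + (-b) • x₂ + (-c) • x₃ + (-d) • x₄) + q (b • x₁ + a • x₂ + (-d) • x₃ + c • x₄) +
      (q (c • x₁ + d • x₂ + a • x₃ + (-b) • x₄) + q (d • x₁ + (-c) • x₂ + b • x₃ + a • x₄)) =
      (a ^ 2 + b ^ 2 + c ^ 2 + d ^ 2) • (q x₁ + q x₂ + (q x₃ + q x₄)) := by
  have h0 : q 0 = 0 := by
    have h := hcube 0 0 0
    simp only [add_zero] at h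
    exact add_left_cancel (a := q 0 + q 0 + q 0) (by rw [add_zero]; exact h)
  let B : G →+ G →+ M := AddMonoidHom.mk' (fun u => AddMonoidHom.mk' (fun v => q (u + v) - q u - q v) fun v w => by
    have e : q (u + (v + w)) = q (u + v) + q (u + w) + q (v + w) - q u - q v - q w := by
      rw [← hcube, ← add_assoc]; abel
    rw [e]; abel) fun u v => by
    ext w
    change q (u + v + w) - q (u + v) - q w = (q (u + w) - q u - q w) + (q (v + w) - q v - q w)
    have e : q (u + v + w) = q (u + v) + q (u + w) + q (v + w) - q u - q v - q w := by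
      rw [← hcube]; abel
    rw [e]; abel
  have hadd : ∀ u v, q (u + v) = q u + q v + B u v := fun u v => by
    change _ = q u + q v + (q (u + v) - q u - q v)
    abel
  have hself : ∀ u, B u u = (2 : ℤ) • q u := fun u => by
    have h := hcube u u (-u)
    rw [add_neg_cancel, h0, add_zero, add_zero, hneg, add_neg_cancel_right, hadd u u] at h
    rw [two_zsmul]
    exact (add_left_cancel (a := q u + q u) (by rw [← h]; abel)).symm
  have hz : ∀ (n : ℤ) (u : G), q (n • u) = (n ^ 2) • q u := fun n u => by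
    induction n using Int.induction_on with
    | zero => simp [h0]
    | succ i ih =>
      rw [add_zsmul, one_zsmul, hadd, ih, map_zsmul, AddMonoidHom.smul_apply, hself]
      match_scalars <;> ring
    | pred i ih =>
      rw [sub_zsmul, one_zsmul, sub_eq_add_neg, hadd, ih, hneg, map_zsmul, AddMonoidHom.smul_apply, map_neg, hself]
      match_scalars <;> ring
  simp only [hadd, hz, map_add, map_zsmul, AddMonoidHom.add_apply, AddMonoidHom.smul_apply]
  match_scalars <;> ring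

attribute [local instance] W7Cube.law AVDeg.overInst
attribute [local instance] AVEuler.isProper_tensor AVEuler.geometricallyIntegral_tensor AVEuler.isCommMonObj_tensor

open AVVanish (mul_dt dt_pow pc_inv_of_invariant)

variable {k : Type u} [Field k] [IsAlgClosed k]

section Classes

variable {A : Over (Spec (CommRingCat.of k))}

/-- concentrated cohomology of a class -/
def ConcC (c : PicLoc.PicSet A.left) (i : ℕ) : Prop := Conc A (rep c) i

omit [IsAlgClosed k] in
theorem concC_cls {L : A.left.Modules} (hL : PicF.IsInvertible L) (i : ℕ) :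
    ConcC (PicGrp.cls L hL) i ↔ Conc A L i := by
  obtain ⟨e⟩ := nonempty_rep_iso hL
  exact ⟨fun h => h.congr fun j => ⟨fun hs => CohQC.hh_subsingleton_of_iso e j hs,
      fun hs => CohQC.hh_subsingleton_of_iso e.symm j hs⟩,
    fun h => h.congr fun j => ⟨fun hs => CohQC.hh_subsingleton_of_iso e.symm j hs,
      fun hs => CohQC.hh_subsingleton_of_iso e j hs⟩⟩

end Classes

variable {A B : Over (Spec (CommRingCat.of k))} [GrpObj A] [IsProper A.hom] [GeometricallyIntegral A.hom]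
  [IsCommMonObj A] [GrpObj B] [IsProper B.hom] [GeometricallyIntegral B.hom] [IsCommMonObj B]

local notation "Dt" c:arg b:arg => pc c (𝟙 A * (toUnit A ≫ b)) * c⁻¹

/-- a non-degenerate class has a symmetric translate -/
theorem exists_symm_translate (c : PicLoc.PicSet A.left)
    (hnd : {x : 𝟙_ (Over (Spec (CommRingCat.of k))) ⟶ A | pc c (𝟙 A * (toUnit A ≫ x)) = c}.Finite) :
    ∃ y : 𝟙_ (Over (Spec (CommRingCat.of k))) ⟶ A,
      pc (pc c (𝟙 A * (toUnit A ≫ y))) (𝟙 A)⁻¹ = pc c (𝟙 A * (toUnit A ≫ y)) := by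
  have hinv : ∀ a : 𝟙_ (Over (Spec (CommRingCat.of k))) ⟶ A,
      pc (pc c (𝟙 A)⁻¹ * c⁻¹) (𝟙 A * (toUnit A ≫ a)) = pc c (𝟙 A)⁻¹ * c⁻¹ := by
    intro a
    have e1 : pull (𝟙 A * (toUnit A ≫ a)).left (pc c (𝟙 A)⁻¹) =
        pull ((𝟙 A)⁻¹ : A ⟶ A).left (pc c (𝟙 A * (toUnit A ≫ a⁻¹))) := by
      rw [pull_pc, pull_pc]
      congr 1
      simp only [MonObj.comp_mul, GrpObj.comp_inv, Category.comp_id, comp_toUnit_assoc, _root_.mul_inv_rev]
      exact _root_.mul_comm _ _
    have e2 : pc (Dt c a⁻¹) (𝟙 A)⁻¹ = (Dt c a⁻¹)⁻¹ :=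
      pc_inv_of_invariant _ fun b => AgVanish.translate_div_invariant c b a⁻¹
    have e3 : Dt c a⁻¹ * Dt c a = 1 := by
      rw [← AgVanish.translate_div_mul, inv_mul_cancel, AVVanish.dt_one]
    have e4 : pc c (𝟙 A * (toUnit A ≫ a⁻¹)) = c * Dt c a⁻¹ := (mul_dt _ _).symm
    have e5 : (pc c (𝟙 A * (toUnit A ≫ a)))⁻¹ = c⁻¹ * (Dt c a)⁻¹ := by
      rw [_root_.mul_inv_rev, _root_.inv_inv, ← _root_.mul_assoc, inv_mul_cancel, _root_.one_mul]
    rw [pc, map_mul, map_inv, e1, e4, map_mul]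
    change pc c (𝟙 A)⁻¹ * pc (Dt c a⁻¹) (𝟙 A)⁻¹ * (pc c (𝟙 A * (toUnit A ≫ a)))⁻¹ = _
    rw [e2, e5, eq_inv_of_mul_eq_one_left e3, _root_.inv_inv, _root_.mul_mul_mul_comm, mul_inv_cancel, _root_.mul_one]
  obtain ⟨x, hx'⟩ := AgVanish.exists_translate c _ hnd hinv
  have hx : pc c (𝟙 A)⁻¹ = c * Dt c x := by rw [mul_dt, hx', inv_mul_cancel_right]
  obtain ⟨y, hy⟩ := AVDeg.exists_pow_eq (A := A) (show 2 ≠ 0 by norm_num) x
  refine ⟨y, ?_⟩
  have h := pc_inv_of_invariant (Dt c y) fun b => AgVanish.translate_div_invariant c b y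
  rw [show pc c (𝟙 A * (toUnit A ≫ y)) = c * Dt c y from (mul_dt _ _).symm, pc, map_mul]
  change pc c (𝟙 A)⁻¹ * pc (Dt c y) (𝟙 A)⁻¹ = _
  rw [hx, h, ← hy, dt_pow]
  rw [pow_two, _root_.mul_assoc, mul_inv_cancel_right]

/-- concentration passes to translates -/
theorem ConcC.translate {c : PicLoc.PicSet A.left} {i : ℕ} (h : ConcC c i)
    (z : 𝟙_ (Over (Spec (CommRingCat.of k))) ⟶ A) : ConcC (pc c (𝟙 A * (toUnit A ≫ z))) i :=
  Conc.congr (hh_translate_iff (isInvertible_rep c) z (isInvertible_rep _) (by rw [cls_rep, cls_rep])) h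

/-- concentration comes back from translates -/
theorem ConcC.of_translate {c : PicLoc.PicSet A.left} {i : ℕ} (z : 𝟙_ (Over (Spec (CommRingCat.of k))) ⟶ A)
    (h : ConcC (pc c (𝟙 A * (toUnit A ≫ z))) i) : ConcC c i :=
  Conc.congr (fun j => (hh_translate_iff (isInvertible_rep c) z (isInvertible_rep _) (by rw [cls_rep, cls_rep]) j).symm) h

theorem ConcC.finite_stab {c : PicLoc.PicSet A.left} {i : ℕ} (h : ConcC c i) :
    {a : 𝟙_ (Over (Spec (CommRingCat.of k))) ⟶ A | pc c (𝟙 A * (toUnit A ≫ a)) = c}.Finite := by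
  simpa only [cls_rep] using Conc.finite_stab (isInvertible_rep c) h

theorem ConcC.pullback (f : A ⟶ B) [IsMonHom f] [IsFinite f.left] [Surjective f.left]
    {c : PicLoc.PicSet B.left} {i : ℕ} (h : ConcC c i) : ConcC (pc c f) i := by
  have h' := (concC_cls (A := A) (PicLoc.isInvertible_pullback f.left (isInvertible_rep c)) i).2
    (Conc.pullback_closed f (isInvertible_rep c) h)
  rwa [← pull_cls f.left (rep c) (isInvertible_rep c), cls_rep] at h'

/-- cohomology of external products -/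
theorem subsingleton_hh_box (a : PicLoc.PicSet A.left) (b : PicLoc.PicSet B.left) (n : ℕ) :
    Subsingleton (Coh.HH (A ⊗ B).left (rep (AVEuler.box a b)) n) ↔
      ∀ p q, p + q = n → Subsingleton (Coh.HH A.left (rep a) p) ∨ Subsingleton (Coh.HH B.left (rep b) q) := by
  classical
  obtain ⟨e⟩ := KunnethHH.nonempty_kunneth A.left B.left (rep a) (TMul.isQCoh_of_isInvertible (isInvertible_rep a))
    (rep b) (TMul.isQCoh_of_isInvertible (isInvertible_rep b)) (Nakai.isFlatOver_field k (rep a))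
    (fun p => inferInstance) n
  obtain ⟨i⟩ : Nonempty (rep (AVEuler.box a b) ≅ AVEuler.extMod k A.left B.left (rep a) (rep b)) := by
    refine (PicGrp.cl_eq_cl_iff _ _).1 ((congrArg Subtype.val (cls_rep (AVEuler.box a b))).trans ?_)
    have e1 : pull (fst A B).left a = PicGrp.cls _ (PicLoc.isInvertible_pullback (fst A B).left (isInvertible_rep a)) :=
      (congrArg (pull (fst A B).left) (cls_rep a).symm).trans (pull_cls _ _ _)
    have e2 : pull (snd A B).left b = PicGrp.cls _ (PicLoc.isInvertible_pullback (snd A B).left (isInvertible_rep b)) :=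
      (congrArg (pull (snd A B).left) (cls_rep b).symm).trans (pull_cls _ _ _)
    rw [AVEuler.box, pc, pc, e1, e2, PicGrp.cls_mul_cls_val]
    rfl
  refine (show Subsingleton (Coh.HH (A ⊗ B).left (rep (AVEuler.box a b)) n) ↔
    Subsingleton (DirectSum (Finset.HasAntidiagonal.antidiagonal n)
      fun pq => Coh.HH A.left (rep a) pq.1.1 ⊗[k] Coh.HH B.left (rep b) pq.1.2) from
    (Iff.intro (fun h => ?_) fun h => ?_)).trans ⟨fun h p q hpq => ?_, fun h => ?_⟩
  · exact @Function.Injective.subsingleton _ _ _ e.injective (CohQC.hh_subsingleton_of_iso i n h)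
  · exact CohQC.hh_subsingleton_of_iso i.symm n (@Function.Injective.subsingleton _ _ _ e.symm.injective h)
  · by_contra hne
    rw [not_or] at hne
    refine not_subsingleton_tensor k _ _ hne.1 hne.2 ⟨fun x y => ?_⟩
    exact DirectSum.of_injective (β := fun pq : Finset.HasAntidiagonal.antidiagonal n =>
      Coh.HH A.left (rep a) pq.1.1 ⊗[k] Coh.HH B.left (rep b) pq.1.2)
      ⟨(p, q), Finset.HasAntidiagonal.mem_antidiagonal.2 hpq⟩ (Subsingleton.elim _ _)
  · haveI : ∀ pq : Finset.HasAntidiagonal.antidiagonal n,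
        Subsingleton (Coh.HH A.left (rep a) pq.1.1 ⊗[k] Coh.HH B.left (rep b) pq.1.2) := fun pq => by
      rcases h _ _ (Finset.HasAntidiagonal.mem_antidiagonal.1 pq.2) with h1 | h1 <;> haveI := h1 <;> infer_instance
    exact ⟨fun x y => DirectSum.ext_component k fun pq => Subsingleton.elim _ _⟩

theorem ConcC.box {a : PicLoc.PicSet A.left} {b : PicLoc.PicSet B.left} {i j : ℕ}
    (ha : ConcC a i) (hb : ConcC b j) : ConcC (AVEuler.box a b) (i + j) := by
  refine ⟨fun n hn => (subsingleton_hh_box a b n).2 fun p q hpq => ?_, not_subsingleton_iff_nontrivial.1 fun h => ?_⟩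
  · by_cases hp : p = i
    · exact Or.inr (hb.1 q (by omega))
    · exact Or.inl (ha.1 p hp)
  · rcases (subsingleton_hh_box a b _).1 h i j rfl with h1 | h1
    · exact not_subsingleton_iff_nontrivial.2 ha.2 h1
    · exact not_subsingleton_iff_nontrivial.2 hb.2 h1

theorem exists_of_box {a : PicLoc.PicSet A.left} {b : PicLoc.PicSet B.left} {n : ℕ}
    (h : ConcC (AVEuler.box a b) n) : ∃ p q, p + q = n ∧ ConcC a p ∧ ConcC b q := by
  obtain ⟨p, q, hpq, hp, hq⟩ : ∃ p q, p + q = n ∧ ¬ Subsingleton (Coh.HH A.left (rep a) p) ∧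
      ¬ Subsingleton (Coh.HH B.left (rep b) q) := by
    by_contra hcon
    refine not_subsingleton_iff_nontrivial.2 h.2 ((subsingleton_hh_box a b n).2 fun p q hpq => ?_)
    by_contra hne
    exact hcon ⟨p, q, hpq, not_or.1 hne⟩
  refine ⟨p, q, hpq, ⟨fun j hj => ?_, not_subsingleton_iff_nontrivial.1 hp⟩,
    ⟨fun j hj => ?_, not_subsingleton_iff_nontrivial.1 hq⟩⟩
  · exact ((subsingleton_hh_box a b _).1 (h.1 (j + q) (by omega)) j q rfl).resolve_right hq
  · exact ((subsingleton_hh_box a b _).1 (h.1 (p + j) (by omega)) p j rfl).resolve_left hp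

section FourSquares

variable {V : Over (Spec (CommRingCat.of k))}

/-- a linear combination of four points -/
def comb4 (a b c d : ℤ) (x₁ x₂ x₃ x₄ : V ⟶ A) : V ⟶ A := x₁ ^ a * x₂ ^ b * x₃ ^ c * x₄ ^ d

theorem pc_comb4 (s : PicLoc.PicSet A.left) (hs : pc s (𝟙 A)⁻¹ = s) (a b c d : ℤ) (x₁ x₂ x₃ x₄ : V ⟶ A) :
    pc s (comb4 a (-b) (-c) (-d) x₁ x₂ x₃ x₄) * pc s (comb4 b a (-d) c x₁ x₂ x₃ x₄) *
      (pc s (comb4 c d a (-b) x₁ x₂ x₃ x₄) * pc s (comb4 d (-c) b a x₁ x₂ x₃ x₄)) =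
      (pc s x₁ * pc s x₂ * (pc s x₃ * pc s x₄)) ^ (a ^ 2 + b ^ 2 + c ^ 2 + d ^ 2) :=
  Additive.ofMul.injective (quad_four (G := Additive (V ⟶ A)) (fun u => Additive.ofMul (pc s (Additive.toMul u)))
    (fun u v w => congrArg Additive.ofMul (cube_rel s (Additive.toMul u) (Additive.toMul v) (Additive.toMul w)))
    (fun u => congrArg Additive.ofMul (show pc s (Additive.toMul u)⁻¹ = pc s (Additive.toMul u) by
      conv_rhs => rw [← hs]
      rw [pc, pc, pc, pull_pull, ← Over.comp_left, GrpObj.comp_inv, Category.comp_id]))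
    a b c d (Additive.ofMul x₁) (Additive.ofMul x₂) (Additive.ofMul x₃) (Additive.ofMul x₄))

end FourSquares

variable (A) in
/-- the quaternion endomorphism of the fourth power -/
def quat (a b c d : ℤ) : (A ⊗ A) ⊗ (A ⊗ A) ⟶ (A ⊗ A) ⊗ (A ⊗ A) :=
  let x₁ := fst (A ⊗ A) (A ⊗ A) ≫ fst A A
  let x₂ := fst (A ⊗ A) (A ⊗ A) ≫ snd A A
  let x₃ := snd (A ⊗ A) (A ⊗ A) ≫ fst A A
  let x₄ := snd (A ⊗ A) (A ⊗ A) ≫ snd A A
  lift (lift (comb4 a (-b) (-c) (-d) x₁ x₂ x₃ x₄) (comb4 b a (-d) c x₁ x₂ x₃ x₄))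
    (lift (comb4 c d a (-b) x₁ x₂ x₃ x₄) (comb4 d (-c) b a x₁ x₂ x₃ x₄))

theorem isMonHom_comb4 {V : Over (Spec (CommRingCat.of k))} [GrpObj V] [IsProper V.hom] [GeometricallyIntegral V.hom]
    (a b c d : ℤ) (x₁ x₂ x₃ x₄ : V ⟶ A) [IsMonHom x₁] [IsMonHom x₂] [IsMonHom x₃] [IsMonHom x₄] :
    IsMonHom (comb4 a b c d x₁ x₂ x₃ x₄) := by
  haveI := AVDeg.isMonHom_zpow x₁ a
  haveI := AVDeg.isMonHom_zpow x₂ b
  haveI := AVDeg.isMonHom_zpow x₃ c
  haveI := AVDeg.isMonHom_zpow x₄ d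
  haveI := AVDeg.isMonHom_mul' (x₁ ^ a) (x₂ ^ b)
  haveI := AVDeg.isMonHom_mul' (x₁ ^ a * x₂ ^ b) (x₃ ^ c)
  exact AVDeg.isMonHom_mul' (x₁ ^ a * x₂ ^ b * x₃ ^ c) (x₄ ^ d)

theorem isMonHom_quat (a b c d : ℤ) : IsMonHom (quat A a b c d) := by
  unfold quat
  haveI := fun p q r s => isMonHom_comb4 (A := A) p q r s (fst (A ⊗ A) (A ⊗ A) ≫ fst A A)
    (fst (A ⊗ A) (A ⊗ A) ≫ snd A A) (snd (A ⊗ A) (A ⊗ A) ≫ fst A A) (snd (A ⊗ A) (A ⊗ A) ≫ snd A A)
  infer_instance

theorem quat_comp (a b c d : ℤ) :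
    quat A a (-b) (-c) (-d) ≫ quat A a b c d = 𝟙 ((A ⊗ A) ⊗ (A ⊗ A)) ^ (a ^ 2 + b ^ 2 + c ^ 2 + d ^ 2) := by
  apply CartesianMonoidalCategory.hom_ext <;> apply CartesianMonoidalCategory.hom_ext <;>
    simp only [quat, comb4, Category.assoc, lift_fst, lift_snd, MonObj.comp_mul, GrpObj.comp_zpow, lift_fst_assoc,
      lift_snd_assoc, GrpObj.zpow_comp, Category.id_comp] <;>
    (apply Additive.ofMul.injective; simp only [ofMul_mul, ofMul_zpow, neg_neg]; module)

theorem pc_quat (s : PicLoc.PicSet A.left) (hs : pc s (𝟙 A)⁻¹ = s) (a b c d : ℤ) :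
    pc (AVEuler.box (AVEuler.box s s) (AVEuler.box s s)) (quat A a b c d) =
      AVEuler.box (AVEuler.box (s ^ (a ^ 2 + b ^ 2 + c ^ 2 + d ^ 2)) (s ^ (a ^ 2 + b ^ 2 + c ^ 2 + d ^ 2)))
        (AVEuler.box (s ^ (a ^ 2 + b ^ 2 + c ^ 2 + d ^ 2)) (s ^ (a ^ 2 + b ^ 2 + c ^ 2 + d ^ 2))) := by
  simp only [AVEuler.box, pc, map_mul, map_zpow, pull_pull, ← Over.comp_left, quat, lift_fst, lift_snd, lift_fst_assoc,
    lift_snd_assoc]
  rw [← mul_zpow, ← mul_zpow, ← mul_zpow]
  exact pc_comb4 s hs a b c d _ _ _ _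

/-- **powers keep the index** -/
theorem ConcC.pow {c : PicLoc.PicSet A.left} {i : ℕ} (h : ConcC c i) {m : ℕ} (hm : 0 < m) : ConcC (c ^ m) i := by
  obtain ⟨y, hy⟩ := exists_symm_translate c h.finite_stab
  set s := pc c (𝟙 A * (toUnit A ≫ y)) with hs
  have hsi : ConcC s i := h.translate y
  obtain ⟨a, b, a', b', habcd⟩ := Nat.sum_four_squares m
  set M : ℤ := (a : ℤ) ^ 2 + (b : ℤ) ^ 2 + (a' : ℤ) ^ 2 + (b' : ℤ) ^ 2 with hM
  have hMm : M = (m : ℤ) := by rw [hM, ← habcd]; push_cast; rfl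
  let φ := quat A (a : ℤ) b a' b'
  haveI hφ : IsMonHom φ := isMonHom_quat _ _ _ _
  haveI := isMonHom_quat (A := A) (a : ℤ) (-b) (-a') (-b')
  haveI hfin : IsFinite φ.left := by
    have hc := quat_comp (A := A) (a : ℤ) (-b) (-a') (-b')
    simp only [_root_.neg_neg, neg_sq] at hc
    rw [← hM, hMm, zpow_natCast] at hc
    haveI := AVDeg.isProper_hom (quat A (a : ℤ) (-b) (-a') (-b'))
    haveI : IsFinite (φ.left ≫ (quat A (a : ℤ) (-b) (-a') (-b')).left) := by
      rw [← Over.comp_left, hc]; exact AVDeg.isFinite_pow_id hm.ne'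
    exact IsFinite.of_comp φ.left (quat A (a : ℤ) (-b) (-a') (-b')).left
  haveI := AVDeg.isIntegral_av ((A ⊗ A) ⊗ (A ⊗ A))
  haveI : Surjective φ.left := GrpField.surjective_of_isFinite φ rfl
  have h4 := ((hsi.box hsi).box (hsi.box hsi)).pullback φ
  rw [pc_quat s hy, ← hM, hMm, zpow_natCast] at h4
  obtain ⟨p, q, hpq, hp, hq⟩ := exists_of_box h4
  obtain ⟨p₁, p₂, hp12, h1, h2⟩ := exists_of_box hp
  obtain ⟨q₁, q₂, hq12, h3, h4'⟩ := exists_of_box hq
  have e1 := h1.unique h2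
  have e2 := h1.unique h3
  have e3 := h1.unique h4'
  obtain rfl : p₁ = i := by omega
  refine ConcC.of_translate y ?_
  rwa [show pc (c ^ m) (𝟙 A * (toUnit A ≫ y)) = s ^ m from map_pow _ _ _]

end Groth.Agent.AVIndex
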