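import Groth.Agent.AVIndex.Index

/-!
The index of a square power of a non-degenerate invertible module.
-/

set_option autoImplicit false
set_option backward.isDefEq.respectTransparency false
set_option backward.isDefEq.respectTransparency.types false
set_option linter.style.haveILetI false
set_option linter.unusedSectionVars false
set_option maxHeartbeats 1000000

universe u

open CategoryTheory CategoryTheory.Limits MonoidalCategory CartesianMonoidalCategory MonObj GrpObj AlgebraicGeometry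
open Groth.Agent.W7Cube (pull pull_pull pc pull_pc pc_const pc_id pull_cls pc_one)

noncomputable section

namespace Groth.Agent.AVIndex

attribute [local instance] W7Cube.law AVDeg.overInst

open AVVanish (mul_dt dt_pow pc_inv_of_invariant)

variable {k : Type u} [Field k] [IsAlgClosed k] {A : Over (Spec (CommRingCat.of k))} [GrpObj A] [IsProper A.hom]
  [GeometricallyIntegral A.hom] [IsCommMonObj A]

local notation "Dt" c:arg b:arg => pc c (𝟙 A * (toUnit A ≫ b)) * c⁻¹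

/-- the inverse image of a non-degenerate class along multiplication by `n` is a translate of its `n²`-th power -/
theorem exists_pow_translate (c : PicLoc.PicSet A.left)
    (hnd : {x : 𝟙_ (Over (Spec (CommRingCat.of k))) ⟶ A | pc c (𝟙 A * (toUnit A ≫ x)) = c}.Finite)
    {n : ℕ} (hn : n ≠ 0) :
    ∃ z : 𝟙_ (Over (Spec (CommRingCat.of k))) ⟶ A,
      pc c (𝟙 A ^ n) = pc (c ^ (n * n)) (𝟙 A * (toUnit A ≫ z)) := by
  have hinv : ∀ a : 𝟙_ (Over (Spec (CommRingCat.of k))) ⟶ A,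
      pc (pc c (𝟙 A)⁻¹ * c⁻¹) (𝟙 A * (toUnit A ≫ a)) = pc c (𝟙 A)⁻¹ * c⁻¹ := by
    intro a
    have e1 : pull (𝟙 A * (toUnit A ≫ a)).left (pc c (𝟙 A)⁻¹) =
        pull ((𝟙 A)⁻¹ : A ⟶ A).left (pc c (𝟙 A * (toUnit A ≫ a⁻¹))) := by
      rw [pull_pc, pull_pc]
      congr 1
      simp only [MonObj.comp_mul, GrpObj.comp_inv, Category.comp_id, comp_toUnit_assoc, _root_.mul_inv_rev]
      exact _root_.mul_comm _ _
    have e2 : pc (Dt c a⁻¹) (𝟙 A)⁻¹ = (Dt c a⁻¹)⁻¹ :=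
      pc_inv_of_invariant _ fun b => AgVanish.translate_div_invariant c b a⁻¹
    have e3 : Dt c a⁻¹ * Dt c a = 1 := by
      rw [← AgVanish.translate_div_mul, inv_mul_cancel, AVVanish.dt_one]
    have e4 : pc c (𝟙 A * (toUnit A ≫ a⁻¹)) = c * Dt c a⁻¹ := (mul_dt _ _).symm
    have e5 : (pc c (𝟙 A * (toUnit A ≫ a)))⁻¹ = c⁻¹ * (Dt c a)⁻¹ := by
      rw [_root_.mul_inv_rev, _root_.inv_inv, ← _root_.mul_assoc, inv_mul_cancel, _root_.one_mul]
    rw [pc, map_mul, map_inv, e1, e4, map_mul]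
    change pc c (𝟙 A)⁻¹ * pc (Dt c a⁻¹) (𝟙 A)⁻¹ * (pc c (𝟙 A * (toUnit A ≫ a)))⁻¹ = _
    rw [e2, e5, eq_inv_of_mul_eq_one_left e3, _root_.inv_inv, _root_.mul_mul_mul_comm, mul_inv_cancel, _root_.mul_one]
  obtain ⟨x, hx'⟩ := AgVanish.exists_translate c _ hnd hinv
  have hx : pc c (𝟙 A)⁻¹ = c * Dt c x := by rw [mul_dt, hx', inv_mul_cancel_right]
  obtain ⟨z, hz⟩ := AVDeg.exists_pow_eq (A := A) (Nat.mul_ne_zero hn hn) (x ^ (n * (n - 1) / 2))
  have hN : n * (n + 1) / 2 + n * (n - 1) / 2 = n * n := by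
    obtain ⟨m, rfl⟩ : ∃ m, n = m + 1 := ⟨n - 1, by omega⟩
    rw [W7Cube.tri_succ, Nat.add_sub_cancel, Nat.mul_comm (m + 1) m]
    have h2 : 2 ∣ m * (m + 1) := (Nat.even_mul_succ_self m).two_dvd
    nlinarith [Nat.div_mul_cancel h2]
  refine ⟨z, ?_⟩
  have hp : pc (c ^ (n * n)) (𝟙 A * (toUnit A ≫ z)) = (c * Dt c z) ^ (n * n) := by
    rw [mul_dt]
    exact map_pow _ _ _
  rw [hp, W7Cube.pc_pow, hx, mul_pow c (Dt c x), mul_pow c (Dt c z), ← _root_.mul_assoc, ← pow_add, hN, ← dt_pow, ← dt_pow, hz]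

/-- cohomology along a translation -/
theorem hh_translate_iff {M : A.left.Modules} (hM : PicF.IsInvertible M) (z : 𝟙_ (Over (Spec (CommRingCat.of k))) ⟶ A)
    {F : A.left.Modules} (hF : PicF.IsInvertible F)
    (e : PicGrp.cls F hF = pc (PicGrp.cls M hM) (𝟙 A * (toUnit A ≫ z))) (p : ℕ) :
    Subsingleton (Coh.HH A.left M p) ↔ Subsingleton (Coh.HH A.left F p) := by
  have htt : ∀ a : 𝟙_ (Over (Spec (CommRingCat.of k))) ⟶ A,
      (𝟙 A * (toUnit A ≫ a)) ≫ (𝟙 A * (toUnit A ≫ a⁻¹)) = 𝟙 A := fun a => by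
    rw [MonObj.comp_mul, Category.comp_id, comp_toUnit_assoc, GrpObj.comp_inv, mul_inv_cancel_right]
  have hiso : ∀ a : 𝟙_ (Over (Spec (CommRingCat.of k))) ⟶ A, IsIso (𝟙 A * (toUnit A ≫ a)).left := fun a => by
    haveI : IsIso (𝟙 A * (toUnit A ≫ a)) := ⟨𝟙 A * (toUnit A ≫ a⁻¹), htt a, by simpa using htt a⁻¹⟩
    exact inferInstanceAs (IsIso ((Over.forget _).map (𝟙 A * (toUnit A ≫ a))))
  have e' : PicGrp.cls M hM = pc (PicGrp.cls F hF) (𝟙 A * (toUnit A ≫ z⁻¹)) := by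
    rw [e]
    change _ = pull (𝟙 A * (toUnit A ≫ z⁻¹)).left (pc (PicGrp.cls M hM) (𝟙 A * (toUnit A ≫ z)))
    rw [pull_pc, show (𝟙 A * (toUnit A ≫ z⁻¹)) ≫ (𝟙 A * (toUnit A ≫ z)) = 𝟙 A by simpa using htt z⁻¹, pc_id]
  have step : ∀ {M F : A.left.Modules} (hM : PicF.IsInvertible M) (hF : PicF.IsInvertible F)
      (z : 𝟙_ (Over (Spec (CommRingCat.of k))) ⟶ A),
      PicGrp.cls F hF = pc (PicGrp.cls M hM) (𝟙 A * (toUnit A ≫ z)) →
      Subsingleton (Coh.HH A.left M p) → Subsingleton (Coh.HH A.left F p) := fun {M F} hM hF z e h => by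
    haveI := hiso z
    rw [pc, pull_cls, PicGrp.cls_eq_cls_iff] at e
    obtain ⟨i⟩ := e
    exact CohQC.hh_subsingleton_of_iso i.symm p
      (TwistOverVan.subsingleton_hh_pullback_iso _ M (TMul.isQCoh_of_isInvertible hM) p h)
  exact ⟨step hM hF z e, step hF hM z⁻¹ e'⟩

end Groth.Agent.AVIndex
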